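import Mathlib

/-!
# `Sp₆(3)` and the module `V₁₄ = Λ³₀` (S2465, F₄(3), block E; helper700)

* `Sp` : `Matrix.symplecticGroup (Fin 3) (ZMod 3)`; `uu T = [[1, T], [0, 1]]`, `vv S = [[1, 0], [S, 1]]`,
  `dd c = [[c, 0], [0, c⁻ᵀ]]`, `ng = -1`;
* `V14` : the quadruples `(α, X, Y, β)`, `X`, `Y` symmetric `3 × 3` matrices with coordinates `11, 22, 33, 23, 13, 12`;
* `ww x y z` : the alternating trilinear map `V₆³ → V₁₄`;
* `Rel A X` : `X (ww x y z) = ww (A x) (A y) (A z)`.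
-/

set_option autoImplicit false

namespace Cfsg.Agent.H700.F43

open Matrix

/-- the field -/
abbrev F3 := ZMod 3

/-- symplectic group -/
abbrev Sp := Matrix.symplecticGroup (Fin 3) F3

/-- the natural module: `Sum.inl i` are the coordinates along `e i`, `Sum.inr i` along `f i` -/
abbrev V6 := Fin 3 ⊕ Fin 3 → F3

/-- `-1` -/
def ng : Sp := ⟨-1, SymplecticGroup.neg_mem (one_mem _)⟩

/-- membership for block matrices -/
theorem mem_iff (A : Matrix (Fin 3 ⊕ Fin 3) (Fin 3 ⊕ Fin 3) F3) :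
    A ∈ Matrix.symplecticGroup (Fin 3) F3 ↔ A * Matrix.J (Fin 3) F3 * Aᵀ = Matrix.J (Fin 3) F3 := Iff.rfl

theorem uu_mem {T : Matrix (Fin 3) (Fin 3) F3} (hT : Tᵀ = T) :
    Matrix.fromBlocks 1 T 0 1 ∈ Matrix.symplecticGroup (Fin 3) F3 := by
  rw [mem_iff, Matrix.J, Matrix.fromBlocks_transpose, Matrix.fromBlocks_multiply, Matrix.fromBlocks_multiply]
  congr 1 <;> simp [hT]

theorem vv_mem {S : Matrix (Fin 3) (Fin 3) F3} (hS : Sᵀ = S) :
    Matrix.fromBlocks 1 0 S 1 ∈ Matrix.symplecticGroup (Fin 3) F3 := by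
  rw [mem_iff, Matrix.J, Matrix.fromBlocks_transpose, Matrix.fromBlocks_multiply, Matrix.fromBlocks_multiply]
  congr 1 <;> simp [hS]

theorem dd_mem (c : SpecialLinearGroup (Fin 3) F3) :
    Matrix.fromBlocks c.1 0 0 ((c⁻¹).1ᵀ) ∈ Matrix.symplecticGroup (Fin 3) F3 := by
  have h1 : c.1 * (c⁻¹).1 = 1 := congrArg Subtype.val (mul_inv_cancel c)
  generalize (c⁻¹).1 = d at h1 ⊢
  generalize c.1 = c at h1 ⊢
  have h2 : d * c = 1 := mul_eq_one_comm.1 h1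
  rw [mem_iff, Matrix.J, Matrix.fromBlocks_transpose, Matrix.fromBlocks_multiply, Matrix.fromBlocks_multiply]
  congr 1
  · simp
  · simp only [Matrix.mul_zero, Matrix.transpose_transpose, zero_add, add_zero, Matrix.mul_neg,
      Matrix.neg_mul, Matrix.mul_one, Matrix.transpose_zero]
    rw [h1]
  · simp only [Matrix.mul_zero, Matrix.zero_mul, zero_add, add_zero, Matrix.mul_one, Matrix.transpose_zero]
    rw [← Matrix.transpose_mul, h1, Matrix.transpose_one]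
  · simp

/-- `[[1, T], [0, 1]]` -/
def uu (T : Matrix (Fin 3) (Fin 3) F3) (hT : Tᵀ = T) : Sp := ⟨Matrix.fromBlocks 1 T 0 1, uu_mem hT⟩

/-- `[[1, 0], [S, 1]]` -/
def vv (S : Matrix (Fin 3) (Fin 3) F3) (hS : Sᵀ = S) : Sp := ⟨Matrix.fromBlocks 1 0 S 1, vv_mem hS⟩

/-- `[[c, 0], [0, c⁻ᵀ]]` -/
def dd (c : SpecialLinearGroup (Fin 3) F3) : Sp := ⟨Matrix.fromBlocks c.1 0 0 ((c⁻¹).1ᵀ), dd_mem c⟩

/-! ### the module of dimension fourteen -/

/-- `(α, X, Y, β)`: coordinate `0` = `α` (along `f₁ ∧ f₂ ∧ f₃`), `1, …, 6` = `X` (`11, 22, 33, 23, 13, 12`, along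
`f ∧ f ∧ e`), `7, …, 12` = `Y` (along `e ∧ e ∧ f`), `13` = `β` (along `e₁ ∧ e₂ ∧ e₃`) -/
abbrev V14 := Fin 14 → F3

/-- determinant of three vectors in coordinates `a b c` -/
def d3 (x y z : V6) (a b c : Fin 3 ⊕ Fin 3) : F3 :=
  x a * (y b * z c - y c * z b) - x b * (y a * z c - y c * z a) + x c * (y a * z b - y b * z a)

/-- the `j`-th pair of indices -/
def pr (j : Fin 3) : Fin 3 × Fin 3 := (j + 1, j + 2)

/-- coefficient along `(f_{j+1} ∧ f_{j+2}) ∧ e_i` -/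
def cX (x y z : V6) (i j : Fin 3) : F3 := d3 x y z (Sum.inr (j + 1)) (Sum.inr (j + 2)) (Sum.inl i)

/-- coefficient along `(e_{j+1} ∧ e_{j+2}) ∧ f_i` -/
def cY (x y z : V6) (i j : Fin 3) : F3 := d3 x y z (Sum.inl (j + 1)) (Sum.inl (j + 2)) (Sum.inr i)

/-- the trilinear map (the symmetric parts, `1/2 = -1`) -/
def ww (x y z : V6) : V14 := ![
  d3 x y z (Sum.inr 0) (Sum.inr 1) (Sum.inr 2),
  cX x y z 0 0, cX x y z 1 1, cX x y z 2 2,
  -(cX x y z 1 2 + cX x y z 2 1), -(cX x y z 0 2 + cX x y z 2 0), -(cX x y z 0 1 + cX x y z 1 0),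
  cY x y z 0 0, cY x y z 1 1, cY x y z 2 2,
  -(cY x y z 1 2 + cY x y z 2 1), -(cY x y z 0 2 + cY x y z 2 0), -(cY x y z 0 1 + cY x y z 1 0),
  d3 x y z (Sum.inl 0) (Sum.inl 1) (Sum.inl 2)]

/-- `X` is the action of `A` on `V₁₄` -/
def Rel (A : Sp) (X : V14 →ₗ[F3] V14) : Prop :=
  ∀ x y z : V6, X (ww x y z) = ww (A.1.mulVec x) (A.1.mulVec y) (A.1.mulVec z)

theorem Rel.mul {A B : Sp} {X Y : V14 →ₗ[F3] V14} (h : Rel A X) (h' : Rel B Y) : Rel (A * B) (X * Y) := by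
  intro x y z
  show X (Y (ww x y z)) = _
  rw [h' x y z, h]
  simp only [Matrix.mulVec_mulVec]
  rfl

theorem Rel.one : Rel 1 (1 : V14 →ₗ[F3] V14) := by
  intro x y z
  simp

end Cfsg.Agent.H700.F43
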