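import Cfsg.Agent.H700.F43.Eng
import Cfsg.Agent.H700.F43.Mod

/-!
# Positive words, the block structure and `f : ⟨roots of P₁'⟩ → Sp₆(3)` (S2465, F₄(3), block E; helper700)
-/

set_option autoImplicit false

namespace Cfsg.Agent.H700.F43

open Cfsg.Lie Cfsg.Agent.ChevalleyStructure.E6Min.Tables Cfsg.Agent.ChevalleyStructure.E6Min.Basic
open Cfsg.Agent.H952.F4 Cfsg.Agent.H633.Ore
open Matrix

/-! ### positive words -/

/-- `x_r(1)` -/
noncomputable abbrev xp (r : ℕ) : Gm := xr (r, true)

/-- positive words -/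
noncomputable def wp (w : List ℕ) : Gm := wd (w.map fun r => (r, true))

theorem wp_nil : wp [] = 1 := rfl
theorem wp_cons (r : ℕ) (w : List ℕ) : wp (r :: w) = xp r * wp w := rfl
theorem wp_append (u v : List ℕ) : wp (u ++ v) = wp u * wp v := by
  rw [wp, List.map_append, wd_append]; rfl

theorem xr_false {r : ℕ} (hr : r < 48) : xr (r, false) = xp r * xp r := by
  have h : ∀ r < 48, chkE [(r, false)] [(r, true), (r, true)] = true := by decide +kernel
  have := word_eq (h r hr)
  rwa [wd_single, wd_cons, wd_single] at this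

theorem xp_cube {r : ℕ} (hr : r < 48) : xp r * (xp r * xp r) = 1 := by
  have h : ∀ r < 48, chkE [(r, true), (r, true), (r, true)] [] = true := by decide +kernel
  have := word_eq (h r hr)
  rwa [wd_cons, wd_cons, wd_single] at this

/-- the subgroup generated by root elements -/
noncomputable def Gp (S : List ℕ) : Subgroup Gm := Subgroup.closure {g | ∃ r ∈ S, g = xp r}

theorem xp_mem {S : List ℕ} {r : ℕ} (h : r ∈ S) : xp r ∈ Gp S := Subgroup.subset_closure ⟨r, h, rfl⟩

theorem wp_mem {S w : List ℕ} (h : ∀ r ∈ w, r ∈ S) : wp w ∈ Gp S := by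
  induction w with
  | nil => exact one_mem _
  | cons r w ih => exact mul_mem (xp_mem (h r List.mem_cons_self)) (ih fun s hs => h s (List.mem_cons_of_mem _ hs))

theorem exists_word {S : List ℕ} (hS : ∀ r ∈ S, r < 48) {g : Gm} (hg : g ∈ Gp S) :
    ∃ w : List ℕ, (∀ r ∈ w, r ∈ S) ∧ g = wp w := by
  induction hg using Subgroup.closure_induction with
  | mem x hx =>
    obtain ⟨r, hr, rfl⟩ := hx
    exact ⟨[r], by simpa using hr, by rw [wp_cons, wp_nil, mul_one]⟩
  | one => exact ⟨[], by simp, rfl⟩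
  | mul x y _ _ hx hy =>
    obtain ⟨u, hu, rfl⟩ := hx
    obtain ⟨v, hv, rfl⟩ := hy
    refine ⟨u ++ v, fun r hr => ?_, (wp_append u v).symm⟩
    rcases List.mem_append.1 hr with h | h
    · exact hu r h
    · exact hv r h
  | inv x _ hx =>
    obtain ⟨u, hu, rfl⟩ := hx
    clear * - hu hS
    induction u with
    | nil => exact ⟨[], by simp, by rw [wp_nil, inv_one]⟩
    | cons r u ih =>
      obtain ⟨v, hv, e⟩ := ih fun s hs => hu s (List.mem_cons_of_mem _ hs)
      have hr := hu r List.mem_cons_self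
      refine ⟨v ++ [r, r], fun s hs => ?_, ?_⟩
      · rcases List.mem_append.1 hs with h | h
        · exact hv s h
        · have : s = r := by simpa using h
          rw [this]; exact hr
      · have h3 : (xp r)⁻¹ = xp r * xp r := inv_eq_of_mul_eq_one_right (xp_cube (hS r hr))
        rw [wp_append, wp_cons, _root_.mul_inv_rev, e, wp_cons, wp_cons, wp_nil, mul_one, h3]

/-- **induction over words** -/
theorem word_ind {S : List ℕ} (hS : ∀ r ∈ S, r < 48) {P : Gm → Prop} (h1 : P 1)
    (hm : ∀ r ∈ S, ∀ g ∈ Gp S, P g → P (xp r * g)) {g : Gm} (hg : g ∈ Gp S) : P g := by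
  obtain ⟨w, hw, rfl⟩ := exists_word hS hg
  clear hg
  induction w with
  | nil => exact h1
  | cons r w ih =>
    have hw' : ∀ s ∈ w, s ∈ S := fun s hs => hw s (List.mem_cons_of_mem _ hs)
    rw [wp_cons]
    exact hm r (hw r List.mem_cons_self) _ (wp_mem hw') (ih hw')

/-! ### the block structure -/

/-- the matrix of an element -/
noncomputable def mt (g : Gm) : Matrix I27 I27 (ZMod 3) := ((rho g : GL I27 (ZMod 3)) : Matrix I27 I27 (ZMod 3))

theorem mt_mul (g h : Gm) : mt (g * h) = mt g * mt h := by rw [mt, map_mul]; rfl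
theorem mt_one : mt 1 = 1 := by rw [mt, map_one]; rfl
theorem mt_inj {g h : Gm} (e : mt g = mt h) : g = h := rho_injective (Units.ext e)

/-- weights for the highest root -/
def w27 : List ℕ := [1, 1, 2, 1, 1, 2, 0, 0, 1, 1, 1, 2, 1, 1, 2, 0, 0, 1, 1, 1, 2, 1, 1, 2, 0, 0, 1]

/-- the weight of an index -/
def hw (x : I27) : ℕ := w27.getD (code x) 0

/-- the fourteen roots of `Q/Z` -/
def rQ : List ℕ := [24, 26, 29, 31, 32, 36, 38, 39, 40, 42, 43, 44, 45, 46]

/-- the six simple roots of `C₃` and their negatives -/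
def rC : List ℕ := [33, 27, 25, 14, 20, 22]

theorem rQ_lt : ∀ r ∈ rQ, r < 48 := by decide
theorem rC_lt : ∀ r ∈ rC, r < 48 := by decide

/-- test of the entries of the matrix of a root element -/
noncomputable def tstR (t : ℕ → ℕ → ZMod 3 → Bool) (r : ℕ) : Bool :=
  evk (exw [(r, true)]) idR fun L => (List.range 27).all fun i => (List.range 27).all fun j => t i j (dg (nt L i) j)

theorem tstR_sound {t : ℕ → ℕ → ZMod 3 → Bool} {r : ℕ} (hr : r < 48) (h : tstR t r = true) (x y : I27) :
    t (code x) (code y) (mt (xp r) x y) = true := by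
  rw [tstR, evk_eq, List.all_eq_true] at h
  have h1 := h (code x) (List.mem_range.2 (code_lt x))
  rw [List.all_eq_true] at h1
  have h2 := h1 (code y) (List.mem_range.2 (code_lt y))
  have h3 := entry (w := [(r, true)]) (by simpa [okF] using hr) x y
  rw [wd_single] at h3
  rw [mt, h3, ← nt_eq]
  exact h2

/-- block triangular -/
def Tri (g : Gm) : Prop := ∀ x y, hw x < hw y → mt g x y = 0

/-- block unipotent -/
def Uni (g : Gm) : Prop := ∀ x y, hw x ≤ hw y → mt g x y = if x = y then 1 else 0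

/-- block diagonal -/
def Dia (g : Gm) : Prop := ∀ x y, hw x ≠ hw y → mt g x y = 0

theorem tri_one : Tri 1 := by
  intro x y h
  rw [mt_one, Matrix.one_apply_ne]
  rintro rfl
  exact lt_irrefl _ h

theorem Tri.mul {g h : Gm} (hg : Tri g) (hh : Tri h) : Tri (g * h) := by
  intro x y hxy
  rw [mt_mul, Matrix.mul_apply]
  refine Finset.sum_eq_zero fun k _ => ?_
  rcases Nat.lt_or_ge (hw x) (hw k) with h1 | h1
  · rw [hg x k h1, zero_mul]
  · rw [hh k y (lt_of_le_of_lt h1 hxy), mul_zero]

theorem uni_one : Uni 1 := fun x y _ => by rw [mt_one, Matrix.one_apply]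

theorem Uni.mul {g h : Gm} (hg : Uni g) (hh : Uni h) : Uni (g * h) := by
  intro x y hxy
  rw [mt_mul, Matrix.mul_apply, Finset.sum_eq_single x]
  · rw [hg x x le_rfl, if_pos rfl, one_mul, hh x y hxy]
  · intro k _ hk
    rcases Nat.lt_or_ge (hw k) (hw x) with h1 | h1
    · rw [hh k y (le_of_lt (lt_of_lt_of_le h1 hxy)), if_neg, mul_zero]
      rintro rfl
      exact absurd h1 (not_lt.2 hxy)
    · rw [hg x k h1, if_neg (Ne.symm hk), zero_mul]
  · intro h; exact absurd (Finset.mem_univ _) h

theorem dia_one : Dia 1 := by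
  intro x y h
  rw [mt_one, Matrix.one_apply_ne]
  rintro rfl
  exact h rfl

theorem Dia.mul {g h : Gm} (hg : Dia g) (hh : Dia h) : Dia (g * h) := by
  intro x y hxy
  rw [mt_mul, Matrix.mul_apply]
  refine Finset.sum_eq_zero fun k _ => ?_
  by_cases h1 : hw x = hw k
  · rw [hh k y (fun e => hxy (h1.trans e)), mul_zero]
  · rw [hg x k h1, zero_mul]

theorem chk_tri : ((rQ ++ rC).all fun r => tstR (fun i j a => !(decide (w27.getD i 0 < w27.getD j 0)) || decide (a = 0)) r) = true := by
  decide +kernel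

theorem chk_uni : (rQ.all fun r => tstR (fun i j a => !(decide (w27.getD i 0 ≤ w27.getD j 0)) ||
    decide (a = if i = j then 1 else 0)) r) = true := by
  decide +kernel

theorem chk_dia : (rC.all fun r => tstR (fun i j a => decide (w27.getD i 0 = w27.getD j 0) || decide (a = 0)) r) = true := by
  decide +kernel

theorem all_lt : ∀ r ∈ rQ ++ rC, r < 48 := by decide

theorem tri_xp {r : ℕ} (hr : r ∈ rQ ++ rC) : Tri (xp r) := by
  intro x y h
  have h1 := tstR_sound (all_lt r hr) (List.all_eq_true.1 chk_tri r hr) x y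
  rw [Bool.or_eq_true, Bool.not_eq_true', decide_eq_false_iff_not, decide_eq_true_eq] at h1
  exact h1.resolve_left (fun h2 => h2 h)

theorem uni_xp {r : ℕ} (hr : r ∈ rQ) : Uni (xp r) := by
  intro x y h
  have h1 := tstR_sound (rQ_lt r hr) (List.all_eq_true.1 chk_uni r hr) x y
  rw [Bool.or_eq_true, Bool.not_eq_true', decide_eq_false_iff_not, decide_eq_true_eq] at h1
  rw [h1.resolve_left (fun h2 => h2 h)]
  simp only [code_eq_iff]

theorem dia_xp {r : ℕ} (hr : r ∈ rC) : Dia (xp r) := by
  intro x y h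
  have h1 := tstR_sound (rC_lt r hr) (List.all_eq_true.1 chk_dia r hr) x y
  rw [Bool.or_eq_true, decide_eq_true_eq, decide_eq_true_eq] at h1
  exact h1.resolve_left h

/-- the group `P₁'` -/
noncomputable def PP : Subgroup Gm := Gp (rQ ++ rC)
/-- its unipotent radical -/
noncomputable def QQ : Subgroup Gm := Gp rQ
/-- its Levi subgroup -/
noncomputable def MM : Subgroup Gm := Gp rC

theorem tri_PP {g : Gm} (hg : g ∈ PP) : Tri g :=
  word_ind all_lt tri_one (fun _ hr _ _ h => (tri_xp hr).mul h) hg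

theorem uni_QQ {g : Gm} (hg : g ∈ QQ) : Uni g :=
  word_ind rQ_lt uni_one (fun _ hr _ _ h => (uni_xp hr).mul h) hg

theorem dia_MM {g : Gm} (hg : g ∈ MM) : Dia g :=
  word_ind rC_lt dia_one (fun _ hr _ _ h => (dia_xp hr).mul h) hg

theorem QQ_le : QQ ≤ PP := by
  unfold QQ PP Gp
  refine Subgroup.closure_mono ?_
  rintro g ⟨r, hr, rfl⟩
  exact ⟨r, List.mem_append_left _ hr, rfl⟩

theorem MM_le : MM ≤ PP := by
  unfold MM PP Gp
  refine Subgroup.closure_mono ?_
  rintro g ⟨r, hr, rfl⟩
  exact ⟨r, List.mem_append_right _ hr, rfl⟩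

end Cfsg.Agent.H700.F43
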