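import Cfsg.Agent.H700.F43.Kap
import Cfsg.Agent.ClassicalGeometry.SympBasic

/-!
# The transvection `f(x₂₅)` (S2465, F₄(3), block E; helper700)
-/

set_option autoImplicit false

namespace Cfsg.Agent.H700.F43

open Matrix Cfsg

/-- equality of `6 × 6` tables -/
def eq6 (f g : Fin 3 ⊕ Fin 3 → Fin 3 ⊕ Fin 3 → ZMod 3) : Bool :=
  decide (∀ i : Fin 3 ⊕ Fin 3, ∀ j : Fin 3 ⊕ Fin 3, @Eq (ZMod 3) (f i j) (g i j))

theorem eq6_iff' {f g : Fin 3 ⊕ Fin 3 → Fin 3 ⊕ Fin 3 → ZMod 3} (h : eq6 f g = true) :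
    ∀ i : Fin 3 ⊕ Fin 3, ∀ j : Fin 3 ⊕ Fin 3, @Eq (ZMod 3) (f i j) (g i j) := of_decide_eq_true h

theorem eq6_iff {f g : Matrix (Fin 3 ⊕ Fin 3) (Fin 3 ⊕ Fin 3) (ZMod 3)} (h : eq6 f g = true) : f = g := by
  ext i j
  exact eq6_iff' h i j

/-- the vector `e₃` -/
def e3v : V6 := fun i => if i = Sum.inl 2 then 1 else 0

theorem tv_eq : fm (xp 25) = sympTransvection 3 e3v 1 := by
  rw [fm_25]
  refine eq6_iff ?_
  decide +kernel

end Cfsg.Agent.H700.F43
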