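import Cfsg.Agent.H700.F43.Wrd

/-!
# Coordinates on `Q/Z` and the natural module (S2465, F₄(3), block E; helper700)

* `kap g` (`g ∈ QQ`) : the coordinates in `V14`; `kap_mul`, `kap_xp`;
* `fm g` : the block on the six vectors of weight two; `fm_mul`, `fm_xp`, `fm_QQ`.
-/

set_option autoImplicit false

namespace Cfsg.Agent.H700.F43

open Cfsg.Lie Cfsg.Agent.ChevalleyStructure.E6Min.Tables Cfsg.Agent.ChevalleyStructure.E6Min.Basic
open Cfsg.Agent.H952.F4 Cfsg.Agent.H633.Ore
open Matrix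

/-! ### coordinates -/

/-- rows -/
def kr (j : Fin 14) : ℕ := ![17, 17, 1, 3, 0, 0, 1, 9, 3, 1, 0, 0, 3, 10] j
/-- columns -/
def kc (j : Fin 14) : ℕ := ![16, 15, 16, 16, 16, 25, 25, 7, 15, 15, 15, 6, 6, 7] j
/-- signs -/
def ks (j : Fin 14) : ZMod 3 := ![1, 1, 2, 1, 2, 1, 1, 2, 1, 2, 1, 2, 2, 1] j
/-- the roots -/
def ord14 (j : Fin 14) : ℕ := ![24, 42, 31, 26, 29, 36, 38, 32, 43, 45, 44, 40, 39, 46] j
/-- signs -/
def eta (j : Fin 14) : ZMod 3 := ![1, 2, 1, 2, 1, 2, 2, 1, 2, 2, 1, 2, 1, 2] j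

theorem ord14_mem : ∀ j, ord14 j ∈ rQ := by decide

/-- **the coordinates** -/
noncomputable def kap (g : Gm) : V14 := fun j => ks j * mt g (dec (kr j)) (dec (kc j))

theorem kr_lt : ∀ j, kr j < 27 := by decide
theorem kc_lt : ∀ j, kc j < 27 := by decide

theorem hw_dec {n : ℕ} (h : n < 27) : hw (dec n) = w27.getD n 0 := by rw [hw, code_dec h]

theorem hw_kr (j : Fin 14) : hw (dec (kr j)) = 1 := by
  rw [hw_dec (kr_lt j)]
  revert j
  decide

theorem hw_kc (j : Fin 14) : hw (dec (kc j)) = 0 := by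
  rw [hw_dec (kc_lt j)]
  revert j
  decide

theorem hw_le (x : I27) : hw x ≤ 2 := by
  have : ∀ i < 27, w27.getD i 0 ≤ 2 := by decide
  exact this _ (code_lt x)

/-- product at an entry of weights `1`, `0` -/
theorem mt_mul_uni {g h : Gm} (hug : Uni g) (huh : Uni h) {x y : I27} (hx : hw x = 1) (hy : hw y = 0) :
    mt (g * h) x y = mt g x y + mt h x y := by
  have hne : x ≠ y := fun e => by rw [e, hy] at hx; omega
  rw [mt_mul, Matrix.mul_apply]
  have hz : ∀ k : I27, k ∉ ({x, y} : Finset I27) → mt g x k * mt h k y = 0 := by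
    intro k hk
    rw [Finset.mem_insert, Finset.mem_singleton, not_or] at hk
    by_cases h1 : hw x ≤ hw k
    · rw [hug x k h1, if_neg (Ne.symm hk.1), zero_mul]
    · rw [huh k y (by omega), if_neg hk.2, mul_zero]
  have h2 : ∑ k ∈ ({x, y} : Finset I27), mt g x k * mt h k y = ∑ k, mt g x k * mt h k y :=
    Finset.sum_subset (Finset.subset_univ _) fun k _ hk => hz k hk
  rw [← h2, Finset.sum_pair hne, hug x x le_rfl, if_pos rfl, one_mul, huh y y le_rfl, if_pos rfl, mul_one, add_comm]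

theorem kap_apply (g : Gm) (j : Fin 14) : kap g j = ks j * mt g (dec (kr j)) (dec (kc j)) := rfl

theorem kap_mul {g h : Gm} (hg : g ∈ QQ) (hh : h ∈ QQ) : kap (g * h) = kap g + kap h := by
  funext j
  rw [Pi.add_apply, kap_apply, kap_apply, kap_apply, mt_mul_uni (uni_QQ hg) (uni_QQ hh) (hw_kr j) (hw_kc j), mul_add]

theorem kap_one : kap 1 = 0 := by
  funext j
  have hne : (dec (kr j) : I27) ≠ dec (kc j) := fun e => by
    have hr := hw_kr j
    rw [e, hw_kc j] at hr
    omega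
  rw [kap_apply, mt_one, Matrix.one_apply_ne hne, mul_zero, Pi.zero_apply]

theorem mt_xp {r : ℕ} (hr : r < 48) (x y : I27) :
    mt (xp r) x y = dg (nt (evl (exw [(r, true)]) idR) (code x)) (code y) := by
  have h3 := entry (w := [(r, true)]) (by simpa [okF] using hr) x y
  rw [wd_single] at h3
  rw [mt, h3, ← nt_eq]

theorem chk_kap : ∀ j k : Fin 14, ks k * dg (nt (evl (exw [(ord14 j, true)]) idR) (kr k)) (kc k) =
    if k = j then eta j else 0 := by
  decide +kernel

theorem kap_xp (j : Fin 14) : kap (xp (ord14 j)) = Pi.single j (eta j) := by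
  funext k
  rw [kap_apply, mt_xp (rQ_lt _ (ord14_mem j)), code_dec (kr_lt k), code_dec (kc_lt k), chk_kap j k, Pi.single_apply]

/-! ### the natural module -/

/-- codes of the basis `e₁, e₂, e₃, f₁, f₂, f₃` -/
def cN : Fin 3 ⊕ Fin 3 → ℕ
  | Sum.inl i => ![20, 2, 5] i
  | Sum.inr i => ![23, 14, 11] i

/-- signs -/
def eN : Fin 3 ⊕ Fin 3 → ZMod 3
  | Sum.inl i => ![1, 1, 2] i
  | Sum.inr _ => 1

/-- the basis -/
def cI (i : Fin 3 ⊕ Fin 3) : I27 := dec (cN i)

theorem cN_lt : ∀ i, cN i < 27 := by decide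
theorem cN_inj : ∀ i j, cN i = cN j → i = j := by decide
theorem eN_sq : ∀ i, eN i * eN i = 1 := by decide

theorem cI_inj {i j : Fin 3 ⊕ Fin 3} (h : cI i = cI j) : i = j :=
  cN_inj i j ((dec_eq_iff (cN_lt i) (cN_lt j)).1 h)

theorem hw_cI (i : Fin 3 ⊕ Fin 3) : hw (cI i) = 2 := by
  rw [cI, hw_dec (cN_lt i)]
  revert i
  decide

theorem exists_cI : ∀ x : I27, hw x = 2 → ∃ i, x = cI i := by
  have h : ∀ c < 27, w27.getD c 0 = 2 → ∃ i, c = cN i := by decide
  intro x hx
  obtain ⟨i, hi⟩ := h _ (code_lt x) hx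
  exact ⟨i, by rw [cI, ← hi, dec_code]⟩

/-- **the block** -/
noncomputable def fm (g : Gm) : Matrix (Fin 3 ⊕ Fin 3) (Fin 3 ⊕ Fin 3) (ZMod 3) := fun i j =>
  eN i * eN j * mt g (cI i) (cI j)

theorem fm_mul {g h : Gm} (hh : Tri h) : fm (g * h) = fm g * fm h := by
  ext i j
  rw [Matrix.mul_apply]
  change eN i * eN j * mt (g * h) (cI i) (cI j) = ∑ k, eN i * eN k * mt g (cI i) (cI k) * (eN k * eN j * mt h (cI k) (cI j))
  rw [mt_mul, Matrix.mul_apply, Finset.mul_sum]
  refine (Fintype.sum_of_injective cI (fun _ _ => cI_inj) _ _ ?_ ?_).symm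
  · intro x hx
    have : hw x < hw (cI j) := by
      rw [hw_cI j]
      refine lt_of_le_of_ne (hw_le x) fun h2 => hx ?_
      obtain ⟨k, hk⟩ := exists_cI x h2
      exact ⟨k, hk.symm⟩
    rw [hh x _ this, mul_zero, mul_zero]
  · intro k
    linear_combination (eN i * eN j * mt g (cI i) (cI k) * mt h (cI k) (cI j)) * eN_sq k

theorem fm_one : fm 1 = 1 := by
  ext i j
  change eN i * eN j * mt 1 (cI i) (cI j) = _
  rw [mt_one, Matrix.one_apply, Matrix.one_apply]
  by_cases h : i = j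
  · subst h
    rw [if_pos rfl, if_pos rfl, mul_one, eN_sq]
  · rw [if_neg h, if_neg (fun e => h (cI_inj e)), mul_zero]

theorem fm_QQ {g : Gm} (hg : g ∈ QQ) : fm g = 1 := by
  ext i j
  change eN i * eN j * mt g (cI i) (cI j) = _
  rw [uni_QQ hg _ _ (by rw [hw_cI, hw_cI]), Matrix.one_apply]
  by_cases h : i = j
  · subst h
    rw [if_pos rfl, if_pos rfl, mul_one, eN_sq]
  · rw [if_neg h, if_neg (fun e => h (cI_inj e)), mul_zero]

/-- the matrix of a generator -/
theorem fm_xp {r : ℕ} (hr : r < 48) (i j : Fin 3 ⊕ Fin 3) :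
    fm (xp r) i j = eN i * eN j * dg (nt (evl (exw [(r, true)]) idR) (cN i)) (cN j) := by
  change eN i * eN j * mt _ _ _ = _
  rw [mt_xp hr, cI, cI, code_dec (cN_lt i), code_dec (cN_lt j)]

/-- elementary matrix -/
def E3 (i j : Fin 3) : Matrix (Fin 3) (Fin 3) (ZMod 3) := Matrix.single i j 1

/-- `1 + t E_{ij}` -/
def tv (i j : Fin 3) (h : i ≠ j) : SpecialLinearGroup (Fin 3) F3 := Matrix.SpecialLinearGroup.transvection h 1

/-- the block of a generator, as a table -/
noncomputable def tb (r : ℕ) (i j : Fin 3 ⊕ Fin 3) : ZMod 3 :=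
  eN i * eN j * dg (nt (evl (exw [(r, true)]) idR) (cN i)) (cN j)

/-- equality of `3 × 3` tables -/
def eqM (f g : Fin 3 → Fin 3 → ZMod 3) : Bool := decide (∀ i j, f i j = g i j)

theorem eqM_iff {f g : Fin 3 → Fin 3 → ZMod 3} (h : eqM f g = true) : ∀ i j, f i j = g i j := of_decide_eq_true h

theorem fm_tb {r : ℕ} (hr : r < 48) {A B C D : Matrix (Fin 3) (Fin 3) (ZMod 3)}
    (h11 : eqM (fun i j => tb r (Sum.inl i) (Sum.inl j)) A = true)
    (h12 : eqM (fun i j => tb r (Sum.inl i) (Sum.inr j)) B = true)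
    (h21 : eqM (fun i j => tb r (Sum.inr i) (Sum.inl j)) C = true)
    (h22 : eqM (fun i j => tb r (Sum.inr i) (Sum.inr j)) D = true) :
    fm (xp r) = Matrix.fromBlocks A B C D := by
  ext (i | i) (j | j)
  · exact (fm_xp hr _ _).trans (eqM_iff h11 i j)
  · exact (fm_xp hr _ _).trans (eqM_iff h12 i j)
  · exact (fm_xp hr _ _).trans (eqM_iff h21 i j)
  · exact (fm_xp hr _ _).trans (eqM_iff h22 i j)

theorem fm_33 : fm (xp 33) = (dd (tv 0 1 (by decide))).1 :=
  fm_tb (by norm_num) (by decide +kernel) (by decide +kernel) (by decide +kernel) (by decide +kernel)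

theorem fm_27 : fm (xp 27) = (dd (tv 1 2 (by decide))).1 :=
  fm_tb (by norm_num) (by decide +kernel) (by decide +kernel) (by decide +kernel) (by decide +kernel)

theorem fm_14 : fm (xp 14) = (dd (tv 1 0 (by decide))).1 :=
  fm_tb (by norm_num) (by decide +kernel) (by decide +kernel) (by decide +kernel) (by decide +kernel)

theorem fm_20 : fm (xp 20) = (dd (tv 2 1 (by decide))).1 :=
  fm_tb (by norm_num) (by decide +kernel) (by decide +kernel) (by decide +kernel) (by decide +kernel)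

theorem fm_25 : fm (xp 25) = (uu (E3 2 2) (by decide)).1 :=
  fm_tb (by norm_num) (by decide +kernel) (by decide +kernel) (by decide +kernel) (by decide +kernel)

theorem fm_22 : fm (xp 22) = (vv (E3 2 2) (by decide)).1 :=
  fm_tb (by norm_num) (by decide +kernel) (by decide +kernel) (by decide +kernel) (by decide +kernel)

theorem fm_mem {g : Gm} (hg : g ∈ PP) : fm g ∈ Matrix.symplecticGroup (Fin 3) F3 := by
  refine word_ind (P := fun g => fm g ∈ Matrix.symplecticGroup (Fin 3) F3) all_lt ?_ ?_ hg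
  · rw [fm_one]; exact one_mem _
  · intro r hr g hg ih
    rw [fm_mul (tri_PP hg)]
    refine mul_mem ?_ ih
    rcases List.mem_append.1 hr with h | h
    · rw [fm_QQ (xp_mem h)]; exact one_mem _
    · simp only [rC, List.mem_cons, List.not_mem_nil, or_false] at h
      rcases h with rfl | rfl | rfl | rfl | rfl | rfl
      · rw [fm_33]; exact (dd _).2
      · rw [fm_27]; exact (dd _).2
      · rw [fm_25]; exact (uu _ _).2
      · rw [fm_14]; exact (dd _).2
      · rw [fm_20]; exact (dd _).2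
      · rw [fm_22]; exact (vv _ _).2

/-- **the homomorphism `f`** -/
noncomputable def ff : ↥PP →* Sp where
  toFun g := ⟨fm g, fm_mem g.2⟩
  map_one' := Subtype.ext fm_one
  map_mul' g h := Subtype.ext (fm_mul (tri_PP h.2))

theorem ff_val (g : ↥PP) : (ff g).1 = fm g := rfl

end Cfsg.Agent.H700.F43
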