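import Cfsg.Agent.H700.F43.Surj
import Cfsg.Agent.H700.F43.Tv
import Cfsg.Agent.H701.F43.CzP
import Cfsg.Agent.H334.F43.Act
import Cfsg.Agent.H267.F43.Ker
import Cfsg.Agent.H750.F43.BlockU
import Cfsg.Agent.H150.F43.Step
import Cfsg.Agent.H934.FF.QV

/-!
# The model of `C(z)` (S2465, F₄(3), block E; helper700)
-/

set_option autoImplicit false

namespace Cfsg.Agent.H700.F43

open Cfsg.Lie Cfsg.Agent.H323.Pw Cfsg.Agent.H750.F43 Cfsg.Agent.H78.Pw
open Cfsg.Agent.ClassicalGeometry.SympBasic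
open Matrix

theorem xp47_eq : xp 47 = zz := rfl
theorem xp25_eq : xp 25 = xa 1 := rfl

theorem ker_ff (g : ↥PP) : ff g = 1 ↔ (g : Gm) ∈ QQ :=
  H267.F43.ker_ff_of (fun _ hr _ hv => H334.F43.conj_QQ (xp_PP hr) hv) g

theorem mem_cz_iff {G : Type*} [Group G] {z g : G} : g ∈ Subgroup.centralizer ({z} : Set G) ↔ g * z = z * g := by
  rw [Subgroup.mem_centralizer_singleton_iff]

theorem cz : CZ = PP := by
  ext g
  exact (mem_cz_iff (G := Gm) (z := xp 47) (g := g)).trans H701.F43.CzP.mem_PP_iff.symm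

theorem z_mem : xp 47 ∈ PP := H701.F43.CzP.mem_PP_iff.2 rfl

/-- the data of `QQ` -/
structure Dat : Prop where
  qv : QQ = H750.F43.VV
  xs : XS 3 (QQ.subgroupOf PP) ⟨xp 47, z_mem⟩
  card : Nat.card QQ = 3 ^ 15
  k47 : kap (xp 47) = 0
  kk : ∀ g ∈ QQ, kap g = 0 → g ∈ Subgroup.zpowers (xp 47)

/-- the element `z` in `PP` -/
noncomputable def zP : ↥PP := ⟨xp 47, z_mem⟩

theorem ker_eq : ff.ker = QQ.subgroupOf PP := by
  ext g
  rw [MonoidHom.mem_ker, ker_ff, Subgroup.mem_subgroupOf]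

theorem zpow_iff {G : Type*} [Group G] {H : Subgroup G} {z : G} (hz : z ∈ H) {x : ↥H} :
    x ∈ Subgroup.zpowers (⟨z, hz⟩ : ↥H) ↔ (x : G) ∈ Subgroup.zpowers z := by
  constructor
  · rintro ⟨n, rfl⟩
    exact ⟨n, rfl⟩
  · rintro ⟨n, hn⟩
    exact ⟨n, Subtype.ext hn⟩

/-- the map from the fixed points in `QQ` -/
theorem card_fix_le {G : Type*} [Group G] {P Q : Subgroup G} (hQP : Q ≤ P) [Finite Q] {z : G} (hz : z ∈ P) (g : ↥P)
    (R : Subgroup ↥P) (hR : R = Q.subgroupOf P) :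
    Nat.card {x : Q // (g : G) * x * (g : G)⁻¹ * (x : G)⁻¹ ∈ Subgroup.zpowers z} = Nat.card (FixX R (⟨z, hz⟩ : ↥P) g) := by
  subst hR
  refine Nat.card_congr ?_
  refine Equiv.subtypeEquiv ((Subgroup.subgroupOfEquivOfLe hQP).symm.toEquiv) fun x => ?_
  rw [zpow_iff hz]
  rfl

theorem card_ker (D : Dat) : Nat.card ff.ker = 3 ^ 15 := by
  rw [ker_eq, ← D.card]
  exact Nat.card_congr (Subgroup.subgroupOfEquivOfLe QQ_le).toEquiv

theorem ker_mem {x : ↥PP} : x ∈ ff.ker ↔ (x : Gm) ∈ QQ := by rw [MonoidHom.mem_ker, ker_ff]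

/-- `kap` on `PP` -/
noncomputable def kp (x : ↥PP) : V14 := kap x

theorem kp_mul : ∀ x ∈ ff.ker, ∀ y ∈ ff.ker, kp (x * y) = kp x + kp y := fun _ hx _ hy =>
  kap_mul (ker_mem.1 hx) (ker_mem.1 hy)

theorem kp_act (g : ↥PP) : ∃ X : V14 →ₗ[F3] V14, (∀ v ∈ ff.ker, kp (g * v * g⁻¹) = X (kp v)) ∧ Rel (ff g) X := by
  obtain ⟨X, h1, h2⟩ := H334.F43.act g
  exact ⟨X, fun v hv => h1 v (ker_mem.1 hv), h2⟩

theorem xs_ff (D : Dat) : XS 3 ff.ker zP := by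
  rw [ker_eq]
  exact D.xs

theorem kp_z (D : Dat) : kp zP = 0 := D.k47

theorem kp_ker (D : Dat) : ∀ x ∈ ff.ker, kp x = 0 → x ∈ Subgroup.zpowers zP := fun x hx h =>
  (zpow_iff z_mem).2 (D.kk x (ker_mem.1 hx) h)

/-- **STEP on `PP`** -/
theorem step_PP (D : Dat) {g : ↥PP} (h1 : ff g ≠ 1) (h2 : ff g ≠ ng)
    (h : (∃ y ∈ ff.ker, y * g * y⁻¹ = g * zP) ∨ Nat.card (FixX ff.ker zP g) ≤ 3 ^ 9) : Pr 6 g :=
  H150.F43.Step.step_abs ff_surj (xs_ff D) (card_ker D) kp_mul (kp_z D) (kp_ker D) kp_act h1 h2 h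

theorem fix_PP (D : Dat) {g : ↥PP} {X : V14 →ₗ[F3] V14} (hr : Rel (ff g) X) :
    Nat.card (FixX ff.ker zP g) ≤ 3 * 3 ^ Module.finrank F3 (LinearMap.ker (X - 1)) :=
  H150.F43.Step.fix_abs (xs_ff D) kp_mul (kp_z D) (kp_ker D) kp_act hr

/-- the inclusion -/
noncomputable def ic : ↥CZ →* ↥PP := Subgroup.inclusion cz.le

theorem ic_val (g : ↥CZ) : ((ic g : ↥PP) : Gm) = (g : G3) := rfl

theorem ic_surj : Function.Surjective ic := fun g => ⟨⟨g, cz.ge g.2⟩, rfl⟩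

theorem card_fix (D : Dat) (g : ↥CZ) :
    Nat.card {x : H750.F43.VV // (g : G3) * x * (g : G3)⁻¹ * (x : G3)⁻¹ ∈ Subgroup.zpowers zz} =
      Nat.card (FixX ff.ker zP (ic g)) := by
  have hfin : Finite ↥QQ := Nat.finite_of_card_ne_zero (by rw [D.card]; norm_num)
  have h := card_fix_le QQ_le z_mem (ic g) ff.ker ker_eq
  refine Eq.trans ?_ h
  rw [D.qv]
  rfl

theorem pr_val {G : Type*} [Group G] {P : Subgroup G} {n : ℕ} {g : ↥P} (h : Pr n g) : Pr n (g : G) := by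
  obtain ⟨a, b, e, ha, hb⟩ := h
  refine ⟨a, b, by rw [e]; rfl, ?_, ?_⟩
  · rwa [Subgroup.orderOf_coe]
  · rwa [Subgroup.orderOf_coe]

/-- conjugate to `g z⁻¹` ⇒ conjugate to `g z` -/
theorem conj_inv {G : Type*} [Group G] {y g z : G} (hz : ∀ x : G, x * z = z * x)
    (h : y * g * y⁻¹ = g * z⁻¹) : y⁻¹ * g * y⁻¹⁻¹ = g * z := by
  have h1 : g = y⁻¹ * (g * z⁻¹) * y := by rw [← h]; group
  have h2 : z⁻¹ * y = y * z⁻¹ := by
    have := hz y
    rw [inv_mul_eq_iff_eq_mul, ← mul_assoc, ← this, mul_assoc, mul_inv_cancel, mul_one]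
  calc y⁻¹ * g * y⁻¹⁻¹ = (y⁻¹ * (g * z⁻¹) * y) * z := by
        rw [inv_inv]
        calc y⁻¹ * g * y = y⁻¹ * (g * (z⁻¹ * y)) * z := by
              rw [h2]
              calc y⁻¹ * g * y = y⁻¹ * (g * (y * (z⁻¹ * z))) := by group
                _ = _ := by group
          _ = _ := by group
    _ = g * z := by rw [← h1]

theorem inv_of_cube {G : Type*} [Group G] {x : G} (h : x * (x * x) = 1) : x * x = x⁻¹ :=
  (inv_eq_of_mul_eq_one_right h).symm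

theorem f3_cases : ∀ d : ZMod 3, d ≠ 0 → d = 1 ∨ d = -1 := by decide

theorem xr47 : xr (47, false) = (xp 47)⁻¹ :=
  (xr_false (by norm_num)).trans (inv_of_cube (G := Gm) (xp_cube (by norm_num)))

theorem xt_cases {d : F3} (hd : d ≠ 0) : xt d = xp 47 ∨ xt d = (xp 47)⁻¹ := by
  rcases f3_cases d hd with rfl | rfl
  · exact Or.inl rfl
  · exact Or.inr xr47

/-- the relation in `PP` -/
theorem conj_case {G : Type*} [Group G] {P : Subgroup G} {y g : ↥P} {z w : G} (hz : z ∈ P)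
    (hc : ∀ x : ↥P, x * (⟨z, hz⟩ : ↥P) = ⟨z, hz⟩ * x) (hw : w = z ∨ w = z⁻¹)
    (h : (y : G) * (g : G) * (y : G)⁻¹ = (g : G) * w) {R : Subgroup ↥P} (hy : y ∈ R) :
    ∃ y ∈ R, y * g * y⁻¹ = g * ⟨z, hz⟩ := by
  rcases hw with rfl | rfl
  · exact ⟨y, hy, Subtype.ext h⟩
  · exact ⟨y⁻¹, inv_mem hy, conj_inv hc (Subtype.ext h)⟩

/-- **The model.** -/
noncomputable def mdl (D : Dat) : Mdl where
  f := ff.comp ic
  ker g := by
    rw [← D.qv]
    exact ker_ff (ic g)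
  surj := ff_surj.comp ic_surj
  rel := H267.SpFx.exists_rel
  fix g X hr := by
    rw [card_fix D g]
    exact fix_PP D hr
  step g h1 h2 h := by
    refine pr_val (g := ic g) (step_PP D h1 h2 ?_)
    rcases h with ⟨y, hy, d, hd, e⟩ | h
    · left
      rw [← D.qv] at hy
      exact conj_case (y := (⟨y, QQ_le hy⟩ : ↥PP)) (g := ic g) z_mem (xs_ff D).central (xt_cases hd) e
        (ker_mem.2 hy)
    · right
      rwa [card_fix D g] at h
  tv := by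
    refine ⟨e3v, 1, ⟨xa 1, cz.ge (xp_PP (by decide : 25 ∈ rC))⟩, ?_, one_ne_zero, rfl, ?_⟩
    · intro h
      have := congrFun h (Sum.inl 2)
      revert this
      decide
    · exact Subtype.ext tv_eq

/-- **The data hold** -/
theorem dat : Dat where
  qv := H934.FF.QV.QQ_eq_VJ
  xs := H934.FF.QV.xs_PP
  card := H934.FF.QV.card_QQ
  k47 := by
    have h := H934.FF.QV.kap_z 1
    have h47 : xp 47 = H934.FF.QV.HH.z 1 := H934.FF.QV.xp_eq (by norm_num)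
    rwa [← h47] at h
  kk _ hg h := H934.FF.QV.kap_ker hg h

/-- **The model of `C(z)`** -/
noncomputable def model : Mdl := mdl dat

end Cfsg.Agent.H700.F43
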