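import Cfsg.Agent.H952.F4.JMod
import Cfsg.Agent.H952.F4.Inv
import Cfsg.Agent.H537.Pw.WCFour
import Cfsg.Agent.H633.Ore.Lin

/-!
# Words of root elements of `F₄(3)` on the 27-dimensional module (S2465, F₄(3), block E; helper700)

A `27 × 27` matrix over `F₃` is a list of 27 numbers (the rows): bit `i` of the row: the entry is `1`, bit `27 + i`: the
entry is `2`.  `chkE u v`: the words `u`, `v` in the root elements `x_r(± 1)` are equal.
-/

set_option autoImplicit false

namespace Cfsg.Agent.H700.F43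

open Cfsg.Lie Cfsg.Agent.ChevalleyStructure.E6Min.Tables Cfsg.Agent.ChevalleyStructure.E6Min.Basic
open Cfsg.Agent.H952.F4 Cfsg.Agent.H633.Ore
open Matrix

/-! ### digits -/

/-- the digit -/
def dg (a i : ℕ) : ZMod 3 := (bif a.testBit i then 1 else 0) + (bif a.testBit (27 + i) then 2 else 0)

/-- a good row -/
def Okr (a : ℕ) : Prop := a < 2 ^ 54 ∧ ∀ i < 27, (a.testBit i && a.testBit (27 + i)) = false

/-- the mask -/
def P27 : ℕ := 134217727

theorem testBit_P27 (i : ℕ) : P27.testBit i = decide (i < 27) := by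
  have : P27 = 2 ^ 27 - 1 := by norm_num [P27]
  rw [this, Nat.testBit_two_pow_sub_one]

/-- addition of rows -/
noncomputable def add3 (a b : ℕ) : ℕ :=
  force (Nat.land a P27) fun A0 => force (Nat.shiftRight a 27) fun A1 =>
    force (Nat.land b P27) fun B0 => force (Nat.shiftRight b 27) fun B1 =>
      force (Nat.xor P27 (Nat.lor A0 A1)) fun nA => force (Nat.xor P27 (Nat.lor B0 B1)) fun nB =>
        Nat.lor (Nat.lor (Nat.lor (Nat.land A0 nB) (Nat.land nA B0)) (Nat.land A1 B1))
          (Nat.shiftLeft (Nat.lor (Nat.lor (Nat.land A1 nB) (Nat.land nA B1)) (Nat.land A0 B0)) 27)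

/-- the negative of a row -/
noncomputable def neg3 (a : ℕ) : ℕ := Nat.lor (Nat.shiftRight a 27) (Nat.shiftLeft (Nat.land a P27) 27)

theorem testBit_hi {a : ℕ} (h : a < 2 ^ 54) {i : ℕ} (hi : 54 ≤ i) : a.testBit i = false :=
  Nat.testBit_lt_two_pow (lt_of_lt_of_le h (Nat.pow_le_pow_right (by norm_num) hi))

theorem testBit_add3_lo {a b : ℕ} {i : ℕ} (hi : i < 27) :
    (add3 a b).testBit i = ((a.testBit i && !(b.testBit i || b.testBit (27 + i))) ||
      (!(a.testBit i || a.testBit (27 + i)) && b.testBit i) || (a.testBit (27 + i) && b.testBit (27 + i))) := by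
  unfold add3
  simp only [force_eq]
  change (((((a &&& P27) &&& (P27 ^^^ ((b &&& P27) ||| (b >>> 27)))) ||| ((P27 ^^^ ((a &&& P27) ||| (a >>> 27))) &&& (b &&& P27))) |||
    ((a >>> 27) &&& (b >>> 27))) ||| (_ <<< 27)).testBit i = _
  rw [Nat.testBit_or, Nat.testBit_shiftLeft, decide_eq_false (by omega : ¬ i ≥ 27), Bool.false_and, Bool.or_false]
  simp only [Nat.testBit_or, Nat.testBit_and, Nat.testBit_xor, testBit_P27, Nat.testBit_shiftRight, hi, decide_true,
    Bool.and_true, Bool.true_xor]

theorem testBit_add3_hi {a b : ℕ} (ha : Okr a) (hb : Okr b) (i : ℕ) :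
    (add3 a b).testBit (27 + i) = ((a.testBit (27 + i) && !(b.testBit i || b.testBit (27 + i)) && decide (i < 27)) ||
      (!(a.testBit i || a.testBit (27 + i)) && b.testBit (27 + i) && decide (i < 27)) ||
        (a.testBit i && b.testBit i && decide (i < 27))) := by
  unfold add3
  simp only [force_eq]
  change (((((a &&& P27) &&& (P27 ^^^ ((b &&& P27) ||| (b >>> 27)))) ||| ((P27 ^^^ ((a &&& P27) ||| (a >>> 27))) &&& (b &&& P27))) |||
    ((a >>> 27) &&& (b >>> 27))) ||| (((((a >>> 27) &&& (P27 ^^^ ((b &&& P27) ||| (b >>> 27)))) |||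
      ((P27 ^^^ ((a &&& P27) ||| (a >>> 27))) &&& (b >>> 27))) ||| ((a &&& P27) &&& (b &&& P27))) <<< 27)).testBit (27 + i) = _
  rw [Nat.testBit_or, Nat.testBit_shiftLeft, decide_eq_true (by omega : 27 + i ≥ 27), Bool.true_and,
    show 27 + i - 27 = i by omega]
  have h27 : decide (27 + i < 27) = false := decide_eq_false (by omega)
  by_cases hi : i < 27
  · have h54 : a.testBit (27 + (27 + i)) = false := testBit_hi ha.1 (by omega)
    simp only [Nat.testBit_or, Nat.testBit_and, Nat.testBit_xor, testBit_P27, Nat.testBit_shiftRight, hi, decide_true,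
      Bool.and_true, Bool.true_xor, h27, Bool.and_false, Bool.false_or, h54, Bool.false_and]
  · have h54 : a.testBit (27 + (27 + i)) = false := testBit_hi ha.1 (by omega)
    have h1 : a.testBit (27 + i) = false := testBit_hi ha.1 (by omega)
    have h2 : b.testBit (27 + i) = false := testBit_hi hb.1 (by omega)
    simp only [Nat.testBit_or, Nat.testBit_and, Nat.testBit_xor, testBit_P27, Nat.testBit_shiftRight, hi, decide_false,
      Bool.and_false, h27, Bool.false_or, h54, Bool.false_and, h1, h2, Bool.false_xor, Bool.or_false]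

theorem ok_add3 {a b : ℕ} (ha : Okr a) (hb : Okr b) : Okr (add3 a b) := by
  refine ⟨?_, fun i hi => ?_⟩
  · apply Nat.lt_pow_two_of_testBit
    intro i hi
    obtain ⟨j, rfl⟩ : ∃ j, i = 27 + j := ⟨i - 27, by omega⟩
    rw [testBit_add3_hi ha hb, decide_eq_false (by omega : ¬ j < 27)]
    simp
  · rw [testBit_add3_lo hi, testBit_add3_hi ha hb, decide_eq_true hi]
    have h1 := ha.2 i hi
    have h2 := hb.2 i hi
    revert h1 h2
    generalize a.testBit i = p
    generalize a.testBit (27 + i) = q
    generalize b.testBit i = r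
    generalize b.testBit (27 + i) = s
    revert p q r s
    decide

theorem dg_add3 {a b : ℕ} (ha : Okr a) (hb : Okr b) {i : ℕ} (hi : i < 27) : dg (add3 a b) i = dg a i + dg b i := by
  unfold dg
  rw [testBit_add3_lo hi, testBit_add3_hi ha hb, decide_eq_true hi]
  have h1 := ha.2 i hi
  have h2 := hb.2 i hi
  revert h1 h2
  generalize a.testBit i = p
  generalize a.testBit (27 + i) = q
  generalize b.testBit i = r
  generalize b.testBit (27 + i) = s
  revert p q r s
  decide

theorem testBit_neg3_lo {a : ℕ} {i : ℕ} (hi : i < 27) : (neg3 a).testBit i = a.testBit (27 + i) := by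
  change ((a >>> 27) ||| ((a &&& P27) <<< 27)).testBit i = _
  rw [Nat.testBit_or, Nat.testBit_shiftLeft, decide_eq_false (by omega : ¬ i ≥ 27), Bool.false_and, Bool.or_false,
    Nat.testBit_shiftRight]

theorem testBit_neg3_hi {a : ℕ} (ha : Okr a) (i : ℕ) : (neg3 a).testBit (27 + i) = (a.testBit i && decide (i < 27)) := by
  change ((a >>> 27) ||| ((a &&& P27) <<< 27)).testBit (27 + i) = _
  rw [Nat.testBit_or, Nat.testBit_shiftLeft, decide_eq_true (by omega : 27 + i ≥ 27), Bool.true_and,
    show 27 + i - 27 = i by omega, Nat.testBit_shiftRight, testBit_hi ha.1 (by omega : 54 ≤ 27 + (27 + i)), Bool.false_or,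
    Nat.testBit_and, testBit_P27]

theorem ok_neg3 {a : ℕ} (ha : Okr a) : Okr (neg3 a) := by
  refine ⟨?_, fun i hi => ?_⟩
  · apply Nat.lt_pow_two_of_testBit
    intro i hi
    obtain ⟨j, rfl⟩ : ∃ j, i = 27 + j := ⟨i - 27, by omega⟩
    rw [testBit_neg3_hi ha, decide_eq_false (by omega : ¬ j < 27), Bool.and_false]
  · rw [testBit_neg3_lo hi, testBit_neg3_hi ha, decide_eq_true hi, Bool.and_true]
    have := ha.2 i hi
    rwa [Bool.and_comm] at this

theorem dg_neg3 {a : ℕ} (ha : Okr a) {i : ℕ} (hi : i < 27) : dg (neg3 a) i = - dg a i := by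
  unfold dg
  rw [testBit_neg3_lo hi, testBit_neg3_hi ha, decide_eq_true hi, Bool.and_true]
  generalize a.testBit i = p
  generalize a.testBit (27 + i) = q
  revert p q
  decide

theorem ok_zero : Okr 0 := ⟨by norm_num, fun i _ => by simp⟩

/-! ### matrices -/

/-- entry of a list -/
noncomputable def nt (L : List ℕ) : ℕ → ℕ :=
  List.rec (fun _ => 0) (fun a _ ih n => Nat.rec a (fun k _ => ih k) n) L

theorem nt_eq : ∀ (L : List ℕ) (n : ℕ), nt L n = L.getD n 0
  | [], n => by simp [nt]
  | a :: L, 0 => rfl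
  | a :: L, n + 1 => by
    rw [List.getD_cons_succ, ← nt_eq L n]
    rfl

/-- the matrix -/
def Rm (L : List ℕ) : Matrix I27 I27 (ZMod 3) := fun x y => dg (L.getD (code x) 0) (code y)

/-- all rows are good -/
def OkL (L : List ℕ) : Prop := ∀ i, Okr (L.getD i 0)

/-- the new row -/
noncomputable def rwf (k : ℕ) (pos : Bool) (L : List ℕ) (x : ℕ) : ℕ :=
  force (ent k x) fun e => cond (Nat.blt e 32) (nt L x)
    (add3 (nt L x) (cond pos (cond (Nat.blt e 64) (nt L (Nat.land e 31)) (neg3 (nt L (Nat.land e 31))))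
      (cond (Nat.blt e 64) (neg3 (nt L (Nat.land e 31))) (nt L (Nat.land e 31)))))

/-- the row numbers -/
def r27 : List ℕ := [0, 1, 2, 3, 4, 5, 6, 7, 8, 9, 10, 11, 12, 13, 14, 15, 16, 17, 18, 19, 20, 21, 22, 23, 24, 25, 26]

/-- sign -/
def sgb (b : Bool) : ZMod 3 := bif b then 1 else -1

theorem ok_rwf {L : List ℕ} (hL : OkL L) (k : ℕ) (pos : Bool) (x : ℕ) : Okr (rwf k pos L x) := by
  unfold rwf
  rw [force_eq]
  simp only [nt_eq]
  cases Nat.blt (ent k x) 32
  · refine ok_add3 (hL _) ?_
    cases pos <;> cases Nat.blt (ent k x) 64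
    · exact hL _
    · exact ok_neg3 (hL _)
    · exact ok_neg3 (hL _)
    · exact hL _
  · exact hL _

theorem getD_map_r27 (f : ℕ → ℕ) {i : ℕ} (hi : i < 27) : (r27.map f).getD i 0 = f i := by
  have h : r27 = List.range 27 := by decide
  rw [h, List.getD_eq_getElem _ _ (by simpa using hi)]
  simp

theorem getD_map_r27' (f : ℕ → ℕ) {i : ℕ} (hi : ¬ i < 27) : (r27.map f).getD i 0 = 0 := by
  have h : r27 = List.range 27 := by decide
  rw [h, List.getD_eq_default _ _ (by simpa using hi)]

theorem okL_map {L : List ℕ} (hL : OkL L) (k : ℕ) (pos : Bool) : OkL (r27.map (rwf k pos L)) := by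
  intro i
  by_cases hi : i < 27
  · rw [getD_map_r27 _ hi]
    exact ok_rwf hL k pos i
  · rw [getD_map_r27' _ hi]
    exact ok_zero

/-- a step -/
theorem rm_step {L : List ℕ} (hL : OkL L) {k : ℕ} (hk : k < 72) (pos : Bool) :
    Rm (r27.map (rwf k pos L)) = zM k (sgb pos) * Rm L := by
  ext x y
  rw [zM_def, add_mul, one_mul, Matrix.add_apply, smul_mul_assoc, Matrix.smul_apply, Nm_mul_apply]
  change dg ((r27.map (rwf k pos L)).getD (code x) 0) (code y) = dg (L.getD (code x) 0) (code y) +
    sgb pos • (((sg k x : ℤ) : ZMod 3) * dg (L.getD (code (sr k x)) 0) (code y))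
  have hc : code (sr k x) = ent k (code x) &&& 31 := code_sr hk x
  rw [getD_map_r27 _ (code_lt x), hc]
  unfold rwf
  rw [force_eq]
  simp only [nt_eq]
  have hsg : sg k x = if ent k (code x) < 32 then 0 else if ent k (code x) < 64 then 1 else -1 := rfl
  rw [hsg]
  generalize ent k (code x) = e
  by_cases h1 : e < 32
  · have h1' : Nat.blt e 32 = true := by rwa [Nat.blt_eq]
    rw [h1', if_pos h1]
    simp
  have h1' : Nat.blt e 32 = false := by
    rw [Bool.eq_false_iff]; intro h; rw [Nat.blt_eq] at h; exact h1 h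
  rw [h1', if_neg h1]
  have hl : Nat.land e 31 = e &&& 31 := rfl
  rw [hl]
  by_cases h2 : e < 64
  · have h2' : Nat.blt e 64 = true := by rwa [Nat.blt_eq]
    rw [h2', if_pos h2]
    cases pos
    · simp only [cond_true, cond_false, sgb, Int.cast_one, one_mul, smul_eq_mul]
      rw [dg_add3 (hL _) (ok_neg3 (hL _)) (code_lt y), dg_neg3 (hL _) (code_lt y), neg_one_mul]
    · simp only [cond_true, cond_false, sgb, Int.cast_one, one_mul, smul_eq_mul]
      rw [dg_add3 (hL _) (hL _) (code_lt y)]
  · have h2' : Nat.blt e 64 = false := by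
      rw [Bool.eq_false_iff]; intro h; rw [Nat.blt_eq] at h; exact h2 h
    rw [h2', if_neg h2]
    cases pos
    · simp only [cond_false, sgb, Int.cast_neg, Int.cast_one, smul_eq_mul]
      rw [dg_add3 (hL _) (hL _) (code_lt y)]
      ring
    · simp only [cond_true, cond_false, sgb, Int.cast_neg, Int.cast_one, smul_eq_mul]
      rw [dg_add3 (hL _) (ok_neg3 (hL _)) (code_lt y), dg_neg3 (hL _) (code_lt y)]
      ring

/-! ### words -/

/-- evaluation -/
noncomputable def evl : List (ℕ × Bool) → List ℕ → List ℕ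
  | [], L => L
  | e :: w, L => r27.map (rwf e.1 e.2 (evl w L))

/-- eager evaluation -/
noncomputable def evk {β : Sort _} : List (ℕ × Bool) → List ℕ → (List ℕ → β) → β :=
  List.rec (fun L K => K L) (fun e _ ih L K => ih L fun L' => mapF (rwf e.1 e.2 L') r27 K)

theorem evk_eq {β : Sort _} : ∀ (w : List (ℕ × Bool)) (L : List ℕ) (K : List ℕ → β), evk w L K = K (evl w L)
  | [], L, K => rfl
  | e :: w, L, K => by
    have h : evk (e :: w) L K = evk w L fun L' => mapF (rwf e.1 e.2 L') r27 K := rfl
    rw [h, evk_eq w, mapF_eq]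
    rfl

/-- all letters are root indices -/
def okW (w : List (ℕ × Bool)) : Bool := w.all fun e => e.1 < 72

theorem okL_evl {w : List (ℕ × Bool)} {L : List ℕ} (hL : OkL L) : OkL (evl w L) := by
  induction w with
  | nil => exact hL
  | cons e w ih => exact okL_map ih _ _

theorem rm_evl {w : List (ℕ × Bool)} (hw : okW w = true) {L : List ℕ} (hL : OkL L) :
    Rm (evl w L) = (w.map fun e => (zM e.1 (sgb e.2) : Matrix I27 I27 (ZMod 3))).prod * Rm L := by
  induction w with
  | nil => rw [List.map_nil, List.prod_nil, one_mul]; rfl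
  | cons e w ih =>
    rw [okW, List.all_cons, Bool.and_eq_true, decide_eq_true_eq] at hw
    change Rm (r27.map (rwf e.1 e.2 (evl w L))) = _
    rw [rm_step (okL_evl hL) hw.1, ih hw.2, List.map_cons, List.prod_cons, Matrix.mul_assoc]

/-- the unit matrix -/
def idR : List ℕ := [1, 2, 4, 8, 16, 32, 64, 128, 256, 512, 1024, 2048, 4096, 8192, 16384, 32768, 65536, 131072, 262144,
  524288, 1048576, 2097152, 4194304, 8388608, 16777216, 33554432, 67108864]

theorem okL_idR : OkL idR := by
  intro i
  by_cases hi : i < 27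
  · have : ∀ i < 27, idR.getD i 0 < 2 ^ 54 ∧ ∀ j < 27, ((idR.getD i 0).testBit j && (idR.getD i 0).testBit (27 + j)) = false := by
      decide +kernel
    exact this i hi
  · rw [List.getD_eq_default _ _ (by simpa [idR] using hi)]
    exact ok_zero

theorem rm_idR : Rm idR = 1 := by
  have h : ∀ i < 27, ∀ j < 27, dg (idR.getD i 0) j = if i = j then 1 else 0 := by decide +kernel
  ext x y
  rw [Matrix.one_apply]
  change dg (idR.getD (code x) 0) (code y) = _
  rw [h _ (code_lt x) _ (code_lt y)]
  simp only [code_eq_iff]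

/-! ### root elements of `F₄` -/

/-- letters of the root elements -/
def dt : List (List (ℕ × Bool)) := dat.map fun l => l.map fun e => (e.1, decide (e.2 = 1))

/-- the letters of a root element `x_r(± 1)` -/
def lt1 (p : ℕ × Bool) : List (ℕ × Bool) := (dt.getD p.1 []).map fun e => (e.1, e.2 == p.2)

theorem dt_ok : ∀ r < 48, ((dat.getD r []).all fun e => decide (e.2 = 1 ∨ e.2 = -1)) = true ∧
    okW (dt.getD r []) = true := by decide +kernel

theorem sgb_beq (a b : Bool) : sgb (a == b) = sgb a * sgb b := by cases a <;> cases b <;> decide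

theorem dt_getD (r : ℕ) : dt.getD r [] = (dat.getD r []).map fun e => (e.1, decide (e.2 = 1)) := by
  unfold dt
  exact List.getD_map (f := fun l : List (ℕ × ℤ) => l.map fun e => (e.1, decide (e.2 = 1))) (l := dat) (d := []) (n := r)

theorem prod_lt1 {p : ℕ × Bool} (hp : p.1 < 48) :
    ((lt1 p).map fun e => (zM e.1 (sgb e.2) : Matrix I27 I27 (ZMod 3))).prod = yM p.1 (sgb p.2) := by
  unfold lt1 yM
  rw [dt_getD]
  have h := (dt_ok p.1 hp).1
  generalize dat.getD p.1 [] = l at h
  rw [List.all_eq_true] at h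
  simp only [List.map_map]
  congr 1
  apply List.map_congr_left
  intro e he
  have := h e he
  rw [decide_eq_true_eq] at this
  simp only [Function.comp]
  rw [sgb_beq]
  rcases this with h | h <;> rw [h] <;> rfl

/-- the letters of a word in the root elements -/
def exw (w : List (ℕ × Bool)) : List (ℕ × Bool) := w.flatMap lt1

/-- all letters are roots of `F₄` -/
def okF (w : List (ℕ × Bool)) : Bool := w.all fun e => e.1 < 48

theorem okW_exw {w : List (ℕ × Bool)} (h : okF w = true) : okW (exw w) = true := by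
  rw [okF, List.all_eq_true] at h
  rw [okW, List.all_eq_true]
  intro e he
  rw [exw, List.mem_flatMap] at he
  obtain ⟨p, hp, he⟩ := he
  have h1 := (dt_ok p.1 (by simpa using h p hp)).2
  rw [okW, List.all_eq_true] at h1
  rw [lt1, List.mem_map] at he
  obtain ⟨e', he', rfl⟩ := he
  exact h1 e' he'

/-- the matrix of a word -/
theorem rm_word {w : List (ℕ × Bool)} (h : okF w = true) :
    Rm (evl (exw w) idR) = (w.map fun p => (yM p.1 (sgb p.2) : Matrix I27 I27 (ZMod 3))).prod := by
  rw [rm_evl (okW_exw h) okL_idR, rm_idR, Matrix.mul_one]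
  induction w with
  | nil => rfl
  | cons p w ih =>
    rw [okF, List.all_cons, Bool.and_eq_true, decide_eq_true_eq] at h
    have e : exw (p :: w) = lt1 p ++ exw w := rfl
    rw [e, List.map_append, List.prod_append, prod_lt1 h.1, ih h.2, List.map_cons, List.prod_cons]

/-! ### the group -/

/-- `F₄(3)` -/
abbrev Gm := ↥(chevF4.group (ZMod 3))

/-- the representation -/
noncomputable def rho : Gm →* GL I27 (ZMod 3) :=
  (Cfsg.Agent.H333.F4J.Ad.FZ (ZMod 3)).subtype.comp (Cfsg.Agent.H333.F4J.Ad.eqv (ZMod 3)).symm.toMonoidHom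

theorem rho_injective : Function.Injective rho :=
  (Subtype.val_injective).comp (Cfsg.Agent.H333.F4J.Ad.eqv (ZMod 3)).symm.injective

open Cfsg.Agent.H333.F4J.Ad in
theorem isJ_rho : IsJ rho := by
  intro r t g hg
  have h1 : (g : GL chevF4.Idx (ZMod 3)) = Cfsg.Agent.ChevalleyStructure.Elts.xG hF4 r.val t := by
    apply Units.ext
    rw [hg, coe_xG_lt r.isLt]
  have h2 := eqv_symm_xG r.isLt t g h1
  change (((eqv (ZMod 3)).symm g : FZ (ZMod 3)) : GL I27 (ZMod 3)).val = _
  rw [h2]
  exact coe_yU r.isLt t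

open Cfsg.Agent.KFacts.RgdChevCoord Cfsg.Agent.Nodes.RGDChev

/-- the type -/
abbrev hF := Cfsg.Agent.H537.Pw.isType_F4

/-- root elements `x_r(± 1)` -/
noncomputable def xr (p : ℕ × Bool) : Gm :=
  xc hF (Cfsg.Agent.Nodes.RGDChev.vec chevF4 4 p.1) (sgb p.2)

theorem rho_xc {r : ℕ} (hr : r < 48) (t : ZMod 3) :
    ((rho (xc hF (Cfsg.Agent.Nodes.RGDChev.vec chevF4 4 r) t) : GL I27 (ZMod 3)) : Matrix I27 I27 (ZMod 3)) = yM r t := by
  refine isJ_rho ⟨r, hr⟩ t _ ?_
  have h1 := coe_xc (K := ZMod 3) hF (r := r) hr t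
  rw [h1]
  exact Cfsg.Agent.H333.F4J.Ad.coe_xG_lt hr t

theorem rho_xr {p : ℕ × Bool} (hp : p.1 < 48) :
    ((rho (xr p) : GL I27 (ZMod 3)) : Matrix I27 I27 (ZMod 3)) = yM p.1 (sgb p.2) := rho_xc hp _

/-- words -/
noncomputable def wd (w : List (ℕ × Bool)) : Gm := (w.map xr).prod

theorem wd_append (u v : List (ℕ × Bool)) : wd (u ++ v) = wd u * wd v := by
  rw [wd, List.map_append, List.prod_append]; rfl

theorem wd_cons (p : ℕ × Bool) (v : List (ℕ × Bool)) : wd (p :: v) = xr p * wd v := rfl

theorem wd_nil : wd [] = 1 := rfl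

theorem wd_single (p : ℕ × Bool) : wd [p] = xr p := by rw [wd_cons, wd_nil, mul_one]

/-- the matrix of a word -/
theorem rho_wd {w : List (ℕ × Bool)} (h : okF w = true) :
    ((rho (wd w) : GL I27 (ZMod 3)) : Matrix I27 I27 (ZMod 3)) = Rm (evl (exw w) idR) := by
  rw [rm_word h]
  induction w with
  | nil => rw [wd_nil, map_one]; rfl
  | cons p w ih =>
    rw [okF, List.all_cons, Bool.and_eq_true, decide_eq_true_eq] at h
    rw [wd_cons, map_mul, Units.val_mul, rho_xr h.1, ih h.2, List.map_cons, List.prod_cons]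

/-- equality of lists -/
noncomputable def eqN : List ℕ → List ℕ → Bool :=
  List.rec (fun l => List.rec true (fun _ _ _ => false) l)
    (fun a _ ih l => List.rec false (fun b l' _ => cond (Nat.beq a b) (ih l') false) l)

theorem eqN_sound : ∀ (u v : List ℕ), eqN u v = true → u = v
  | [], [], _ => rfl
  | [], _ :: _, h => absurd h Bool.false_ne_true
  | _ :: _, [], h => absurd h Bool.false_ne_true
  | a :: u, b :: v, h => by
    have e : eqN (a :: u) (b :: v) = cond (Nat.beq a b) (eqN u v) false := rfl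
    rw [e] at h
    cases hb : Nat.beq a b
    · rw [hb] at h
      exact absurd h Bool.false_ne_true
    · rw [hb, cond_true] at h
      rw [Nat.eq_of_beq_eq_true hb, eqN_sound u v h]

/-- the test of equality of words -/
noncomputable def chkE (u v : List (ℕ × Bool)) : Bool :=
  okF u && okF v && evk (exw u) idR fun A => evk (exw v) idR fun B => eqN A B

/-- **equality of words** -/
theorem word_eq {u v : List (ℕ × Bool)} (h : chkE u v = true) : wd u = wd v := by
  rw [chkE, Bool.and_eq_true, Bool.and_eq_true, evk_eq, evk_eq] at h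
  have h1 := eqN_sound _ _ h.2
  apply rho_injective
  apply Units.ext
  rw [rho_wd h.1.1, rho_wd h.1.2, h1]

/-- an entry of the matrix of a word -/
theorem entry {w : List (ℕ × Bool)} (h : okF w = true) (x y : I27) :
    ((rho (wd w) : GL I27 (ZMod 3)) : Matrix I27 I27 (ZMod 3)) x y = dg ((evl (exw w) idR).getD (code x) 0) (code y) := by
  rw [rho_wd h]
  rfl

/-- test -/
theorem test_theta : chkE [(47, true), (47, true), (47, true)] [] = true := by decide +kernel

end Cfsg.Agent.H700.F43
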