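import Cfsg.Agent.H700.F43.Kap
import Cfsg.Agent.H980.F43.GenSp

/-!
# Surjectivity of `f : P₁' → Sp₆(3)` (S2465, F₄(3), block E; helper700)
-/

set_option autoImplicit false

namespace Cfsg.Agent.H700.F43

open Matrix

/-- matrices `6 × 6` -/
abbrev M6 := Matrix (Fin 3 ⊕ Fin 3) (Fin 3 ⊕ Fin 3) (ZMod 3)
/-- matrices `3 × 3` -/
abbrev M3 := Matrix (Fin 3) (Fin 3) (ZMod 3)

/-- in the image -/
def InR (X : M6) : Prop := ∃ g ∈ PP, fm g = X

theorem InR.mul {X Y : M6} (hX : InR X) (hY : InR Y) : InR (X * Y) := by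
  obtain ⟨g, hg, rfl⟩ := hX
  obtain ⟨h, hh, rfl⟩ := hY
  exact ⟨g * h, mul_mem hg hh, fm_mul (tri_PP hh)⟩

theorem InR.inv {X Y : M6} (hX : InR X) (h : X * Y = 1) : InR Y := by
  obtain ⟨g, hg, rfl⟩ := hX
  refine ⟨g⁻¹, inv_mem hg, ?_⟩
  have h1 : fm g⁻¹ * fm g = 1 := by rw [← fm_mul (tri_PP hg), inv_mul_cancel, fm_one]
  calc fm g⁻¹ = fm g⁻¹ * (fm g * Y) := by rw [h, Matrix.mul_one]
    _ = Y := by rw [← Matrix.mul_assoc, h1, Matrix.one_mul]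

/-- the matrices `T` with `u(T)` in the image -/
def UU : AddSubmonoid M3 where
  carrier := {T | InR (fromBlocks 1 T 0 1)}
  zero_mem' := by
    show InR (fromBlocks 1 0 0 1)
    rw [fromBlocks_one]
    exact ⟨1, one_mem _, fm_one⟩
  add_mem' {S T} hS hT := by
    have h := InR.mul hS hT
    rw [fromBlocks_multiply] at h
    simpa [add_comm] using h

/-- the matrices `S` with `v(S)` in the image -/
def VV : AddSubmonoid M3 where
  carrier := {T | InR (fromBlocks 1 0 T 1)}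
  zero_mem' := by
    show InR (fromBlocks 1 0 0 1)
    rw [fromBlocks_one]
    exact ⟨1, one_mem _, fm_one⟩
  add_mem' {S T} hS hT := by
    have h := InR.mul hS hT
    rw [fromBlocks_multiply] at h
    simpa [add_comm] using h

/-- a pair of mutually inverse matrices in the image -/
def Pa (c k : M3) : Prop := c * k = 1 ∧ InR (fromBlocks c 0 0 kᵀ)

theorem Pa.u {c k : M3} (h : Pa c k) {T : M3} (hT : T ∈ UU) : c * T * cᵀ ∈ UU := by
  obtain ⟨h1, h2⟩ := h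
  have h3 : InR (fromBlocks k 0 0 cᵀ) := h2.inv (by
    rw [fromBlocks_multiply, ← fromBlocks_one]
    congr 1 <;> simp [h1, ← transpose_mul])
  have h4 := (h2.mul hT).mul h3
  rw [fromBlocks_multiply, fromBlocks_multiply] at h4
  have h5 : kᵀ * cᵀ = 1 := by rw [← transpose_mul, h1, transpose_one]
  have h6 : (fromBlocks 1 (c * T * cᵀ) 0 1 : M6) = fromBlocks ((c * 1 + 0 * 0) * k + (c * T + 0 * 1) * 0)
      ((c * 1 + 0 * 0) * 0 + (c * T + 0 * 1) * cᵀ) ((0 * 1 + kᵀ * 0) * k + (0 * T + kᵀ * 1) * 0)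
      ((0 * 1 + kᵀ * 0) * 0 + (0 * T + kᵀ * 1) * cᵀ) := by
    congr 1 <;> simp [h1, h5]
  show InR _
  rw [h6]
  exact h4

theorem Pa.v {c k : M3} (h : Pa c k) {T : M3} (hT : T ∈ VV) : kᵀ * T * k ∈ VV := by
  obtain ⟨h1, h2⟩ := h
  have h3 : InR (fromBlocks k 0 0 cᵀ) := h2.inv (by
    rw [fromBlocks_multiply, ← fromBlocks_one]
    congr 1 <;> simp [h1, ← transpose_mul])
  have h4 := (h2.mul hT).mul h3
  rw [fromBlocks_multiply, fromBlocks_multiply] at h4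
  have h5 : kᵀ * cᵀ = 1 := by rw [← transpose_mul, h1, transpose_one]
  have h6 : (fromBlocks 1 0 (kᵀ * T * k) 1 : M6) = fromBlocks ((c * 1 + 0 * T) * k + (c * 0 + 0 * 1) * 0)
      ((c * 1 + 0 * T) * 0 + (c * 0 + 0 * 1) * cᵀ) ((0 * 1 + kᵀ * T) * k + (0 * 0 + kᵀ * 1) * 0)
      ((0 * 1 + kᵀ * T) * 0 + (0 * 0 + kᵀ * 1) * cᵀ) := by
    congr 1 <;> simp [h1, h5]
  show InR _
  rw [h6]
  exact h4

theorem pa_tv (i j : Fin 3) (h : i ≠ j) {g : Gm} (hg : g ∈ PP) (e : fm g = (dd (tv i j h)).1) :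
    Pa (tv i j h).1 ((tv i j h)⁻¹).1 := by
  refine ⟨congrArg Subtype.val (mul_inv_cancel (tv i j h)), g, hg, e⟩

theorem xp_PP {r : ℕ} (hr : r ∈ rC) : xp r ∈ PP := xp_mem (List.mem_append_right _ hr)

theorem pa01 : Pa !![1, 1, 0; 0, 1, 0; 0, 0, 1] !![1, 2, 0; 0, 1, 0; 0, 0, 1] := by
  have h := pa_tv 0 1 (by decide) (xp_PP (by decide : 33 ∈ rC)) fm_33
  have e1 : (tv 0 1 (by decide)).1 = !![1, 1, 0; 0, 1, 0; 0, 0, 1] := by decide
  have e2 : ((tv 0 1 (by decide))⁻¹).1 = !![1, 2, 0; 0, 1, 0; 0, 0, 1] := by decide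
  rwa [e1, e2] at h

theorem pa12 : Pa !![1, 0, 0; 0, 1, 1; 0, 0, 1] !![1, 0, 0; 0, 1, 2; 0, 0, 1] := by
  have h := pa_tv 1 2 (by decide) (xp_PP (by decide : 27 ∈ rC)) fm_27
  have e1 : (tv 1 2 (by decide)).1 = !![1, 0, 0; 0, 1, 1; 0, 0, 1] := by decide
  have e2 : ((tv 1 2 (by decide))⁻¹).1 = !![1, 0, 0; 0, 1, 2; 0, 0, 1] := by decide
  rwa [e1, e2] at h

theorem pa10 : Pa !![1, 0, 0; 1, 1, 0; 0, 0, 1] !![1, 0, 0; 2, 1, 0; 0, 0, 1] := by
  have h := pa_tv 1 0 (by decide) (xp_PP (by decide : 14 ∈ rC)) fm_14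
  have e1 : (tv 1 0 (by decide)).1 = !![1, 0, 0; 1, 1, 0; 0, 0, 1] := by decide
  have e2 : ((tv 1 0 (by decide))⁻¹).1 = !![1, 0, 0; 2, 1, 0; 0, 0, 1] := by decide
  rwa [e1, e2] at h

theorem pa21 : Pa !![1, 0, 0; 0, 1, 0; 0, 1, 1] !![1, 0, 0; 0, 1, 0; 0, 2, 1] := by
  have h := pa_tv 2 1 (by decide) (xp_PP (by decide : 20 ∈ rC)) fm_20
  have e1 : (tv 2 1 (by decide)).1 = !![1, 0, 0; 0, 1, 0; 0, 1, 1] := by decide
  have e2 : ((tv 2 1 (by decide))⁻¹).1 = !![1, 0, 0; 0, 1, 0; 0, 2, 1] := by decide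
  rwa [e1, e2] at h

/-- rank one matrices -/
def sq (a b c : ZMod 3) : M3 := !![a * a, a * b, a * c; b * a, b * b, b * c; c * a, c * b, c * c]

theorem u_step {c k : M3} (h : Pa c k) {a b d a' b' d' : ZMod 3} (hu : sq a b d ∈ UU)
    (e : c * sq a b d * cᵀ = sq a' b' d') : sq a' b' d' ∈ UU := e ▸ h.u hu

theorem v_step {c k : M3} (h : Pa c k) {a b d a' b' d' : ZMod 3} (hu : sq a b d ∈ VV)
    (e : kᵀ * sq a b d * k = sq a' b' d') : sq a' b' d' ∈ VV := e ▸ h.v hu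

theorem u001 : sq 0 0 1 ∈ UU := by
  have e : sq 0 0 1 = E3 2 2 := by decide
  rw [e]
  exact ⟨xp 25, xp_PP (by decide), fm_25⟩

theorem v001 : sq 0 0 1 ∈ VV := by
  have e : sq 0 0 1 = E3 2 2 := by decide
  rw [e]
  exact ⟨xp 22, xp_PP (by decide), fm_22⟩

theorem u011 : sq 0 1 1 ∈ UU := u_step pa12 u001 (by decide)
theorem u111 : sq 1 1 1 ∈ UU := u_step pa01 u011 (by decide)
theorem u012 : sq 0 1 2 ∈ UU := u_step pa21 u011 (by decide)
theorem u010 : sq 0 1 0 ∈ UU := u_step pa21 u012 (by decide)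
theorem u110 : sq 1 1 0 ∈ UU := u_step pa01 u010 (by decide)
theorem u120 : sq 1 2 0 ∈ UU := u_step pa10 u110 (by decide)
theorem u100 : sq 1 0 0 ∈ UU := u_step pa10 u120 (by decide)
theorem u121 : sq 1 2 1 ∈ UU := u_step pa10 u111 (by decide)
theorem u101 : sq 1 0 1 ∈ UU := u_step pa10 u121 (by decide)

theorem v021 : sq 0 2 1 ∈ VV := v_step pa21 v001 (by decide)
theorem v011 : sq 0 1 1 ∈ VV := v_step pa21 v021 (by decide)
theorem v010 : sq 0 1 0 ∈ VV := v_step pa12 v011 (by decide)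
theorem v210 : sq 2 1 0 ∈ VV := v_step pa10 v010 (by decide)
theorem v110 : sq 1 1 0 ∈ VV := v_step pa10 v210 (by decide)
theorem v100 : sq 1 0 0 ∈ VV := v_step pa01 v110 (by decide)
theorem v211 : sq 2 1 1 ∈ VV := v_step pa10 v011 (by decide)
theorem v111 : sq 1 1 1 ∈ VV := v_step pa10 v211 (by decide)
theorem v101 : sq 1 0 1 ∈ VV := v_step pa01 v111 (by decide)

theorem smul_mem3 {W : AddSubmonoid M3} {M : M3} (h : M ∈ W) (t : ZMod 3) : t • M ∈ W := by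
  have e : t • M = t.val • M := by
    ext i j
    rw [Matrix.smul_apply, Matrix.smul_apply, smul_eq_mul, nsmul_eq_mul, ZMod.natCast_zmod_val]
  rw [e]
  exact nsmul_mem h _

theorem sym_mem {W : AddSubmonoid M3} (h1 : sq 1 0 0 ∈ W) (h2 : sq 0 1 0 ∈ W) (h3 : sq 0 0 1 ∈ W) (h4 : sq 1 1 0 ∈ W)
    (h5 : sq 1 0 1 ∈ W) (h6 : sq 0 1 1 ∈ W) {T : M3} (hT : Tᵀ = T) : T ∈ W := by
  have hs : ∀ i j, T j i = T i j := fun i j => congrFun (congrFun hT i) j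
  have e : T = (T 0 0 + 2 * T 0 1 + 2 * T 0 2) • sq 1 0 0 + (T 1 1 + 2 * T 0 1 + 2 * T 1 2) • sq 0 1 0 +
      (T 2 2 + 2 * T 0 2 + 2 * T 1 2) • sq 0 0 1 + T 0 1 • sq 1 1 0 + T 0 2 • sq 1 0 1 + T 1 2 • sq 0 1 1 := by
    have k3 : (3 : ZMod 3) = 0 := by decide
    ext i j
    fin_cases i <;> fin_cases j <;> simp [sq] <;>
      first
        | rfl
        | exact hs _ _
        | linear_combination (-(T 0 1) - T 0 2) * k3
        | linear_combination (-(T 0 1) - T 1 2) * k3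
        | linear_combination (-(T 0 2) - T 1 2) * k3
  rw [e]
  exact add_mem (add_mem (add_mem (add_mem (add_mem (smul_mem3 h1 _) (smul_mem3 h2 _)) (smul_mem3 h3 _))
    (smul_mem3 h4 _)) (smul_mem3 h5 _)) (smul_mem3 h6 _)

/-- **`f` is surjective.** -/
theorem ff_surj : Function.Surjective ff := by
  rw [← MonoidHom.range_eq_top, ← top_le_iff, ← H980.F43.gen_sp, Subgroup.closure_le]
  rintro A (⟨T, hT, rfl⟩ | ⟨S, hS, rfl⟩)
  · obtain ⟨g, hg, e⟩ := sym_mem u100 u010 u001 u110 u101 u011 hT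
    exact ⟨⟨g, hg⟩, Subtype.ext e⟩
  · obtain ⟨g, hg, e⟩ := sym_mem v100 v010 v001 v110 v101 v011 hS
    exact ⟨⟨g, hg⟩, Subtype.ext e⟩

end Cfsg.Agent.H700.F43
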